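import Cfsg.Agent.PLocal.GlaubermanZJ
import Cfsg.Agent.PLocal.PStabilityCor
import Cfsg.Agent.PLocal.GlaubermanThompson
import Cfsg.Agent.Transfer.NormalPComplement

/-!
# The axiomatic form of Glauberman–Thompson for constrained groups

A family `𝒜` of abelian subgroups of a Sylow `p`-subgroup `T` (`p` odd) with the invariance and the
replacement property. If `C(O_p) ≤ O_p` and the action on normal `p`-subgroups is `p`-stable, the
intersection of `𝒜` is normal; if its normalizer lies in `T` the group is `T`.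
-/

set_option autoImplicit false

namespace CfsgLib.FusionAxThompson

open Cfsg Subgroup CfsgLib.PLocal
open scoped commutatorElement

variable {G : Type*} [Group G] {p : ℕ}

/-- The intersection of the members contained in `R`. -/
def iSub (𝒜 : Set (Subgroup G)) (R : Subgroup G) : Subgroup G := sInf {A | A ∈ 𝒜 ∧ A ≤ R}

theorem iSub_anti (𝒜 : Set (Subgroup G)) {R T : Subgroup G} (h : R ≤ T) :
    iSub 𝒜 T ≤ iSub 𝒜 R :=
  sInf_le_sInf fun _ hA => ⟨hA.1, hA.2.trans h⟩

/-- The hypotheses on the family `𝒜`. -/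
structure IsThompsonFamily (𝒜 : Set (Subgroup G)) (T : Subgroup G) : Prop where
  le : ∀ A ∈ 𝒜, A ≤ T
  comm : ∀ A ∈ 𝒜, IsMulCommutative A
  nonempty : 𝒜.Nonempty
  inv : ∀ R ≤ T, (∃ A ∈ 𝒜, A ≤ R) → ∀ g ∈ normalizer (R : Set G), ∀ x ∈ iSub 𝒜 R,
    g * x * g⁻¹ ∈ iSub 𝒜 R
  repl : ∀ B ≤ T, T ≤ normalizer (B : Set G) → ⁅⁅B, B⁆, B⁆ = ⊥ →
    (∃ A ∈ 𝒜, ⁅B, B⁆ ≤ A ∧ ¬ B ≤ A) →
      ∃ A ∈ 𝒜, ⁅B, B⁆ ≤ A ∧ ¬ B ≤ A ∧ B ≤ normalizer (A : Set G)

variable {𝒜 : Set (Subgroup G)} {T : Subgroup G}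

theorem IsThompsonFamily.iSub_le (h : IsThompsonFamily 𝒜 T) {A : Subgroup G} (hA : A ∈ 𝒜) :
    iSub 𝒜 T ≤ A := sInf_le ⟨hA, h.le A hA⟩

theorem IsThompsonFamily.normalizer_le (h : IsThompsonFamily 𝒜 T) {R : Subgroup G} (hR : R ≤ T)
    (hA : ∃ A ∈ 𝒜, A ≤ R) :
    normalizer (R : Set G) ≤ normalizer (iSub 𝒜 R : Set G) := by
  intro g hg
  rw [mem_normalizer_iff]
  exact fun x => ⟨h.inv R hR hA g hg x, fun hx => by
    simpa [mul_assoc] using h.inv R hR hA g⁻¹ (inv_mem hg) _ hx⟩

variable [Finite G] [Fact p.Prime]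

theorem IsThompsonFamily.inf_normal {P : Sylow p G} (h : IsThompsonFamily 𝒜 (P : Subgroup G))
    (hst : ∀ (V : Subgroup G) [V.Normal], IsPGroup p V → IsPStableOn p V)
    (B : Subgroup G) [hBn : B.Normal] (hB : IsPGroup p B) :
    (B ⊓ iSub 𝒜 (P : Subgroup G)).Normal := by
  induction hk : Nat.card B using Nat.strong_induction_on generalizing B with
  | h k ih =>
  subst hk
  set Z := iSub 𝒜 (P : Subgroup G) with hZ
  by_contra hnn
  have hBP : B ≤ (P : Subgroup G) := (le_pCore hB).trans (pCore_le_sylow P)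
  obtain ⟨A₀, hA₀⟩ := h.nonempty
  have hZn : (P : Subgroup G) ≤ normalizer (Z : Set G) :=
    le_normalizer.trans (h.normalizer_le le_rfl ⟨A₀, hA₀, h.le A₀ hA₀⟩)
  have hNB : normalizer (B : Set G) = ⊤ := normalizer_eq_top _
  -- `B` is the normal closure of `B ⊓ Z`
  have hgen : normalClosure ((B ⊓ Z : Subgroup G) : Set G) = B := by
    have hle : normalClosure ((B ⊓ Z : Subgroup G) : Set G) ≤ B :=
      normalClosure_le_normal fun x hx => (mem_inf.mp hx).1
    refine eq_of_le_of_card_ge hle (not_lt.mp fun hlt => hnn ?_)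
    have := ih _ hlt (normalClosure ((B ⊓ Z : Subgroup G) : Set G)) (hB.to_le hle) rfl
    have e : normalClosure ((B ⊓ Z : Subgroup G) : Set G) ⊓ Z = B ⊓ Z :=
      le_antisymm (inf_le_inf_right Z hle) (le_inf (fun x hx => subset_normalClosure hx) inf_le_right)
    rwa [e] at this
  have hne : B ≠ ⊥ := by
    rintro rfl
    exact hnn (by rw [bot_inf_eq]; infer_instance)
  have hBlt : ⁅B, B⁆ < B := by
    refine lt_of_le_not_ge B.commutator_le_self fun h' => hne ?_
    haveI : Group.IsNilpotent B := hB.isNilpotent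
    have h1 : (⊤ : Subgroup B) ≤ ⁅(⊤ : Subgroup B), (⊤ : Subgroup B)⁆ := by
      intro x _
      have : (x : G) ∈ ⁅(⊤ : Subgroup B), (⊤ : Subgroup B)⁆.map B.subtype := by
        rw [map_commutator, ← MonoidHom.range_eq_map, range_subtype]; exact h' x.2
      obtain ⟨y, hy, hyx⟩ := this
      rwa [Subtype.ext hyx] at hy
    have h2 := eq_bot_of_le_commutator_top h1
    rw [eq_bot_iff]
    intro x hx
    exact mem_bot.mpr (congrArg Subtype.val ((eq_bot_iff.mp h2) (mem_top (⟨x, hx⟩ : B))))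
  have hBd : ⁅B, B⁆ ≤ Z := by
    set M := ⁅B, B⁆ ⊓ Z with hM
    haveI hMn : M.Normal :=
      ih _ (Set.ncard_lt_ncard (SetLike.coe_ssubset_coe.mpr hBlt) (Set.toFinite _)) _
        (hB.to_le B.commutator_le_self) rfl
    haveI : (sectionKernel B M).Normal := by
      haveI : (B.map (QuotientGroup.mk' M)).Normal :=
        hBn.map _ (QuotientGroup.mk'_surjective _)
      exact Subgroup.Normal.comap inferInstance _
    have hmem : ∀ X : Subgroup G, X ≤ sectionKernel B M ↔ ⁅X, B⁆ ≤ M := by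
      intro X
      conv_rhs => rw [← QuotientGroup.ker_mk' M, ← Subgroup.map_eq_bot_iff, map_commutator,
        commutator_eq_bot_iff_le_centralizer, map_le_iff_le_comap]
      rfl
    have h1 : B ⊓ Z ≤ sectionKernel B M := by
      rw [hmem]
      exact le_inf (commutator_mono inf_le_left le_rfl) ((commutator_mono inf_le_right le_rfl).trans
        (commutator_le_of_le_normalizer (hBP.trans hZn)))
    have h2 : B ≤ sectionKernel B M := by
      conv_lhs => rw [← hgen]
      exact normalClosure_le_normal h1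
    exact ((hmem B).mp h2).trans inf_le_right
  have hZc : IsMulCommutative Z := isMulCommutative_of_le (h.comm A₀ hA₀) (h.iSub_le hA₀)
  -- `B` has class at most two
  have hclass : ⁅⁅B, B⁆, B⁆ = ⊥ := by
    rw [commutator_eq_bot_iff_le_centralizer, le_centralizer_iff]
    conv_lhs => rw [← hgen]
    haveI : (centralizer ((⁅B, B⁆ : Subgroup G) : Set G)).Normal := Subgroup.normal_centralizer
    refine normalClosure_le_normal ?_
    exact inf_le_right.trans ((le_centralizer_iff_isMulCommutative.mpr hZc).trans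
      (centralizer_le (SetLike.coe_subset_coe.mpr hBd)))
  -- the largest normal subgroup normalising `B ⊓ Z`
  set L := (normalizer ((B ⊓ Z : Subgroup G) : Set G)).normalCore with hL
  have hLmem : ∀ D : Subgroup G, D.Normal → D ≤ normalizer ((B ⊓ Z : Subgroup G) : Set G) → D ≤ L :=
    fun D hD h' => @normal_le_normalCore _ _ _ D hD |>.mpr h'
  have hFrat := normalizer_inf_sylow_sup P L
  have hPBZ : (P : Subgroup G) ≤ normalizer ((B ⊓ Z : Subgroup G) : Set G) := fun x hx =>
    mem_normalizer_iff.mpr fun y => by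
      rw [mem_inf, mem_inf, ← mem_normalizer_iff.mp (hZn hx) y,
        ← mem_normalizer_iff.mp (hNB.ge (mem_top x)) y]
  -- members inside `L` contain `B`
  have hLA : ∀ A ∈ 𝒜, A ≤ L → B ≤ A := by
    intro A hA hAL
    have hAR : A ≤ L ⊓ (P : Subgroup G) := le_inf hAL (h.le A hA)
    have hn := h.normalizer_le (inf_le_right : L ⊓ (P : Subgroup G) ≤ P) ⟨A, hA, hAR⟩
    have hZ1A : iSub 𝒜 (L ⊓ (P : Subgroup G)) ≤ A := sInf_le ⟨hA, hAR⟩
    refine le_trans ?_ hZ1A
    rw [← hgen, normalClosure, closure_le]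
    intro y hy
    obtain ⟨x, hx, hxy⟩ := Group.mem_conjugatesOfSet_iff.mp hy
    obtain ⟨g, hg⟩ := isConj_iff.mp hxy
    subst hg
    obtain ⟨n, hn', l, hl, rfl⟩ := mem_sup_of_normal_right.mp (hFrat ▸ mem_top g)
    have h1 : l * x * l⁻¹ ∈ B ⊓ Z :=
      (mem_normalizer_iff.mp (normalCore_le _ hl) x).mp hx
    have h2 := (mem_normalizer_iff.mp (hn hn') _).mp (iSub_anti 𝒜 inf_le_right h1.2)
    simpa only [mul_assoc, mul_inv_rev, SetLike.mem_coe] using h2
  by_cases hall : ∀ A ∈ 𝒜, B ≤ A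
  · apply hnn
    have hBZ : B ≤ Z := le_sInf fun A hA => hall A hA.1
    rw [inf_eq_left.mpr hBZ]
    exact hBn
  push Not at hall
  obtain ⟨A₁, hA₁, hnle⟩ := hall
  obtain ⟨A, hA, -, hBA, hnA⟩ := h.repl B hBP ((le_top : (P : Subgroup G) ≤ ⊤).trans hNB.ge) hclass
    ⟨A₁, hA₁, hBd.trans (h.iSub_le hA₁), hnle⟩
  refine hBA (hLA A hA fun a ha => ?_)
  have hcomm : ⁅B, A⁆ ≤ A := by
    rw [commutator_comm]
    exact commutator_le_of_le_normalizer hnA
  have hq : ⁅⁅B, Subgroup.zpowers a⁆, Subgroup.zpowers a⁆ = ⊥ := by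
    rw [eq_bot_iff]
    refine (commutator_mono ((commutator_mono le_rfl (zpowers_le.mpr ha)).trans hcomm)
      (zpowers_le.mpr ha)).trans ?_
    rw [commutator_eq_bot_iff_le_centralizer.mpr
      (le_centralizer_iff_isMulCommutative.mpr (h.comm A hA))]
  obtain ⟨D, hDn, hCD, ⟨j, hj⟩, haD⟩ := exists_normal_of_isPStableOn (hst B hB) hq
  refine hLmem D hDn ?_ haD
  refine (le_inf_sylow_sup P hCD hj).trans (sup_le (inf_le_right.trans hPBZ) ?_)
  exact (centralizer_le (SetLike.coe_subset_coe.mpr (inf_le_left : B ⊓ Z ≤ B))).trans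
    (centralizer_le_normalizer _)

/-- The intersection is normal in a constrained `p`-stable group. -/
theorem IsThompsonFamily.iSub_normal {P : Sylow p G} (h : IsThompsonFamily 𝒜 (P : Subgroup G))
    (hc : centralizer (pCore p G : Set G) ≤ pCore p G)
    (hst : ∀ (V : Subgroup G) [V.Normal], IsPGroup p V → IsPStableOn p V) :
    (iSub 𝒜 (P : Subgroup G)).Normal := by
  set Z := iSub 𝒜 (P : Subgroup G) with hZ
  set R := pCore p G
  obtain ⟨A, hA⟩ := h.nonempty
  have hZA : Z ≤ A := h.iSub_le hA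
  have hR : IsPGroup p R := isPGroup_pCore p G
  have hRP : R ≤ (P : Subgroup G) := pCore_le_sylow P
  have hle : Z ≤ R := by
    intro z hz
    have hRZ : ⁅R, Z⁆ ≤ Z := by
      rw [commutator_comm]
      exact commutator_le_of_le_normalizer
        (hRP.trans (le_normalizer.trans (h.normalizer_le le_rfl ⟨A, hA, h.le A hA⟩)))
    have hq : ⁅⁅R, Subgroup.zpowers z⁆, Subgroup.zpowers z⁆ = ⊥ := by
      rw [eq_bot_iff]
      refine (commutator_mono ((commutator_mono le_rfl (zpowers_le.mpr hz)).trans hRZ)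
        (zpowers_le.mpr hz)).trans ?_
      rw [commutator_eq_bot_iff_le_centralizer.mpr
        (le_centralizer_iff_isMulCommutative.mpr (isMulCommutative_of_le (h.comm A hA) hZA))]
    obtain ⟨D, hDn, hCD, ⟨j, hj⟩, hzD⟩ := exists_normal_of_isPStableOn (hst R hR) hq
    refine le_pCore (N := D) (hN := hDn) ?_ hzD
    refine IsPGroup.to_le ?_ (le_inf_sylow_sup P hCD hj)
    exact IsPGroup.to_sup_of_normal_right (P.isPGroup'.to_le inf_le_right) (hR.to_le hc)
  have := h.inf_normal hst R hR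
  rwa [← hZ, inf_eq_right.mpr hle] at this

/-- Restriction of a family to a subgroup containing `T`. -/
theorem IsThompsonFamily.subgroupOf {T H : Subgroup G} (h : IsThompsonFamily 𝒜 T) (hTH : T ≤ H) :
    IsThompsonFamily ((fun A : Subgroup G => A.subgroupOf H) '' 𝒜) (T.subgroupOf H) ∧
      iSub ((fun A : Subgroup G => A.subgroupOf H) '' 𝒜) (T.subgroupOf H) =
        (iSub 𝒜 T).subgroupOf H := by
  have hmono : ∀ {A R : Subgroup G}, A ≤ H → (A.subgroupOf H ≤ R.subgroupOf H ↔ A ≤ R) := by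
    intro A R hA
    exact ⟨fun hle x hx => hle (show (⟨x, hA hx⟩ : H) ∈ A.subgroupOf H from hx),
      fun hle x hx => hle hx⟩
  have hiSub : ∀ R : Subgroup H, R ≤ T.subgroupOf H →
      iSub ((fun A : Subgroup G => A.subgroupOf H) '' 𝒜) R =
        (iSub 𝒜 (R.map H.subtype)).subgroupOf H := by
    intro R _
    ext x
    simp only [iSub, mem_sInf, mem_subgroupOf, Set.mem_setOf_eq, Set.mem_image]
    constructor
    · rintro hx A ⟨hA, hAR⟩
      refine mem_subgroupOf.1 (hx (A.subgroupOf H) ⟨⟨A, hA, rfl⟩, ?_⟩)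
      exact fun y hy => by
        obtain ⟨z, hz, hzy⟩ := hAR hy
        rwa [← Subtype.ext hzy]
    · rintro hx _ ⟨⟨A, hA, rfl⟩, hAR⟩
      exact mem_subgroupOf.2 (hx A ⟨hA, fun y hy =>
        ⟨⟨y, hTH (h.le A hA hy)⟩, hAR (mem_subgroupOf.2 hy), rfl⟩⟩)
  have hmapT : ∀ {R : Subgroup H}, R ≤ T.subgroupOf H → R.map H.subtype ≤ T := fun hR => by
    rintro _ ⟨y, hy, rfl⟩
    exact hR hy
  refine ⟨⟨?_, ?_, h.nonempty.image _, ?_, ?_⟩, ?_⟩
  · rintro _ ⟨A, hA, rfl⟩
    exact fun x hx => h.le A hA hx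
  · rintro _ ⟨A, hA, rfl⟩
    exact ⟨⟨fun a b => Subtype.ext (Subtype.ext
      (comm_of_isMulCommutative (h.comm A hA) (mem_subgroupOf.1 a.2) (mem_subgroupOf.1 b.2)))⟩⟩
  · rintro R hR ⟨_, ⟨A, hA, rfl⟩, hAR⟩ g hg x hx
    rw [hiSub R hR] at hx ⊢
    have hAR' : A ≤ R.map H.subtype := fun y hy =>
      ⟨⟨y, hTH (h.le A hA hy)⟩, hAR (mem_subgroupOf.2 hy), rfl⟩
    exact h.inv _ (hmapT hR) ⟨A, hA, hAR'⟩ g (le_normalizer_map _ ⟨g, hg, rfl⟩) x hx
  · intro B hB hTB hcl ⟨_, ⟨A, hA, rfl⟩, hBA, hnle⟩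
    have hBT : B.map H.subtype ≤ T := hmapT hB
    have hder : ⁅B.map H.subtype, B.map H.subtype⁆ = ⁅B, B⁆.map H.subtype :=
      (map_commutator B B H.subtype).symm
    obtain ⟨A', hA', h1, h2, h3⟩ := h.repl (B.map H.subtype) hBT (fun t ht => by
        exact le_normalizer_map _ ⟨⟨t, hTH ht⟩, hTB (mem_subgroupOf.2 ht), rfl⟩) (by
        rw [hder, ← map_commutator, hcl, Subgroup.map_bot]) ⟨A, hA, by
        rw [hder]; rintro _ ⟨y, hy, rfl⟩; exact hBA hy, fun hle => hnle fun y hy =>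
          hle ⟨y, hy, rfl⟩⟩
    refine ⟨_, ⟨A', hA', rfl⟩, fun y hy => h1 (hder ▸ mem_map_of_mem _ hy), fun hle => h2 ?_,
      fun y hy => ?_⟩
    · rintro _ ⟨y, hy, rfl⟩
      exact hle hy
    · refine mem_normalizer_iff.2 fun z => ?_
      exact mem_normalizer_iff.1 (h3 (mem_map_of_mem _ hy)) (z : G)
  · rw [hiSub _ le_rfl, map_subgroupOf_eq_of_le hTH]

/-- A group with constrained core in which the normalizer of the intersection lies in `T` is `T`. -/
theorem sylow_eq_top (hp : p ≠ 2) : ∀ (n : ℕ) {G : Type*} [Group G] [Finite G],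
    Nat.card G = n → ∀ (P : Sylow p G) (𝒜 : Set (Subgroup G)),
      IsThompsonFamily 𝒜 (P : Subgroup G) → centralizer (pCore p G : Set G) ≤ pCore p G →
        normalizer (iSub 𝒜 (P : Subgroup G) : Set G) ≤ (P : Subgroup G) →
          (P : Subgroup G) = ⊤ := by
  intro n
  induction n using Nat.strong_induction_on with
  | h n ih =>
  intro G _ _ hn P 𝒜 h hc hN
  by_contra hne
  obtain ⟨A₀, hA₀⟩ := h.nonempty
  -- proper overgroups
  have hmax : ∀ H : Subgroup G, (P : Subgroup G) ≤ H → H ≠ ⊤ → H = (P : Subgroup G) := by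
    intro H hPH hH
    obtain ⟨hf, hi⟩ := h.subgroupOf hPH
    have hlt : Nat.card H < n := hn ▸ lt_of_le_of_ne (Subgroup.card_le_card_group H)
      fun e => hH (Subgroup.eq_top_of_card_eq H e)
    have hcore : (pCore p G).subgroupOf H ≤ pCore p H := pCore_subgroupOf_le H
    have := ih _ hlt rfl (P.subtype hPH) ((fun A : Subgroup G => A.subgroupOf H) '' 𝒜) hf ?_ ?_
    · refine le_antisymm (fun x hx => ?_) hPH
      have h' : (⟨x, hx⟩ : H) ∈ (P.subtype hPH : Subgroup H) := this ▸ mem_top _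
      exact h'
    · intro x hx
      refine hcore (hc (mem_centralizer_iff.2 fun y hy => ?_))
      have hyH : y ∈ H := hPH (pCore_le_sylow P hy)
      exact congrArg Subtype.val (mem_centralizer_iff.1 hx ⟨y, hyH⟩ (hcore hy))
    · rw [show ((P.subtype hPH : Sylow p H) : Subgroup H) = (P : Subgroup G).subgroupOf H from rfl, hi,
        ← subgroupOf_normalizer_eq ((iSub_anti 𝒜 le_rfl).trans ((h.iSub_le hA₀).trans
          ((h.le A₀ hA₀).trans hPH)))]
      exact fun x hx => hN hx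
  set Q := pCore p G with hQ
  have hQP : Q ≤ (P : Subgroup G) := pCore_le_sylow P
  by_cases hPQ : (P : Subgroup G) ≤ Q
  · refine hne (top_le_iff.1 (le_trans ?_ hN))
    refine le_trans ?_ (h.normalizer_le le_rfl ⟨A₀, hA₀, h.le A₀ hA₀⟩)
    rw [show (P : Subgroup G) = Q from le_antisymm hPQ hQP, normalizer_eq_top]
  -- the quotient by the core is `p`-nilpotent
  set π := QuotientGroup.mk' Q with hπ
  let Pb : Sylow p (G ⧸ Q) := P.mapSurjective (QuotientGroup.mk'_surjective Q)
  have hPb : (Pb : Subgroup (G ⧸ Q)) = (P : Subgroup G).map π := rfl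
  have hcomap : ((Pb : Subgroup (G ⧸ Q))).comap π = (P : Subgroup G) := by
    rw [hPb, comap_map_eq, QuotientGroup.ker_mk', sup_eq_left.mpr hQP]
  have hover : ∀ K : Subgroup (G ⧸ Q), (Pb : Subgroup (G ⧸ Q)) ≤ K → K ≠ ⊤ →
      K = (Pb : Subgroup (G ⧸ Q)) := by
    intro K hK hKt
    refine Subgroup.comap_injective (QuotientGroup.mk'_surjective Q) ?_
    rw [hcomap]
    refine hmax _ (hcomap ▸ comap_mono hK) fun ht => hKt ?_
    rw [← map_comap_eq_self_of_surjective (QuotientGroup.mk'_surjective Q) K, ht,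
      map_top_of_surjective _ (QuotientGroup.mk'_surjective Q)]
  have hPbne : (Pb : Subgroup (G ⧸ Q)) ≠ ⊥ := fun e => hPQ (by
    rw [← hcomap, e, MonoidHom.comap_bot, QuotientGroup.ker_mk'])
  have hcore0 : pCore p (G ⧸ Q) = ⊥ := pCore_quotient_pCore_eq_bot p G
  obtain ⟨P₂, K, hKn, hKc⟩ : HasNormalPComplement p (G ⧸ Q) := by
    refine hasNormalPComplement_of_normalizer_centerThompsonAOf hp Pb ?_
    refine Transfer.hasNormalPComplement_of_isPGroup (Pb.isPGroup'.to_le (le_of_eq ?_))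
    refine hover _ (le_normalizer.trans (normalizer_le_normalizer_centerThompsonAOf _)) fun e => ?_
    haveI := normalizer_eq_top_iff.1 e
    refine centerThompsonAOf_ne_bot Pb.isPGroup' hPbne (le_bot_iff.1 (hcore0 ▸ le_pCore ?_))
    exact Pb.isPGroup'.to_le (centerThompsonAOf_le _)
  haveI := hKn
  haveI h2 : Fact (Nat.Prime 2) := ⟨Nat.prime_two⟩
  -- two-subgroups of the quotient lie in the complement, whose Sylow two-subgroups are abelian
  have h2K : ∀ X : Subgroup (G ⧸ Q), IsPGroup 2 X → X ≤ K := by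
    intro X hX x hx
    obtain ⟨i, hi⟩ := hX ⟨x, hx⟩
    obtain ⟨j, hj⟩ : ∃ j, K.index = p ^ j := by
      rw [hKc.symm.index_eq_card]
      exact P₂.isPGroup'.exists_card_eq
    have h1 : (QuotientGroup.mk' K x) ^ p ^ j = 1 := by
      rw [← hj, Subgroup.index]; exact pow_card_eq_one'
    have h3 : (QuotientGroup.mk' K x) ^ 2 ^ i = 1 := by
      rw [← map_pow, show x ^ 2 ^ i = 1 from congrArg Subtype.val hi, map_one]
    have hcop : Nat.Coprime (p ^ j) (2 ^ i) :=
      Nat.Coprime.pow _ _ ((Nat.coprime_primes (Fact.out : p.Prime) Nat.prime_two).2 hp)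
    have := pow_gcd_eq_one.2 ⟨h1, h3⟩
    rw [hcop, pow_one] at this
    exact (QuotientGroup.eq_one_iff x).1 this
  have hab2 : ∀ X : Subgroup (G ⧸ Q), IsPGroup 2 X → IsMulCommutative X := by
    intro X hX
    obtain ⟨S₂, hS₂⟩ := (hX.comap_subtype (K := K)).exists_le_sylow
    suffices IsMulCommutative ↥((S₂ : Subgroup K).map K.subtype) by
      refine isMulCommutative_of_le this fun x hx => ?_
      exact ⟨⟨x, h2K X hX hx⟩, hS₂ hx, rfl⟩
    set V := (S₂ : Subgroup K).map K.subtype with hV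
    have hV2 : IsPGroup 2 V := S₂.isPGroup'.map _
    by_cases hV1 : V = ⊥
    · rw [hV1]; infer_instance
    -- some Sylow `p`-subgroup normalises `V`
    have hfr : normalizer (V : Set (G ⧸ Q)) ⊔ K = ⊤ := Sylow.normalizer_sup_eq_top S₂
    obtain ⟨U⟩ := (inferInstance : Nonempty (Sylow p ↥(normalizer (V : Set (G ⧸ Q)))))
    set Um := (U : Subgroup ↥(normalizer (V : Set (G ⧸ Q)))).map
      (normalizer (V : Set (G ⧸ Q))).subtype with hUm
    have hUp : IsPGroup p Um := U.isPGroup'.map _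
    obtain ⟨U₁, hU₁⟩ := hUp.exists_le_sylow
    have hUeq : Um = (U₁ : Subgroup (G ⧸ Q)) := by
      refine eq_of_le_of_card_ge hU₁ (Nat.le_of_dvd Nat.card_pos ?_)
      -- the index of `normalizer V` is prime to `p`
      have hdvd : (normalizer (V : Set (G ⧸ Q))).index ∣ Nat.card K := by
        refine Nat.dvd_of_mul_dvd_mul_left Nat.card_pos ?_
          (k := Nat.card ↥(normalizer (V : Set (G ⧸ Q))))
        have h := card_sup_dvd_mul (normalizer (V : Set (G ⧸ Q))) K
        rw [hfr, Subgroup.card_top] at h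
        rwa [card_mul_index]
      have hKp : ¬ p ∣ Nat.card K := by
        rw [← hKc.index_eq_card]
        exact P₂.not_dvd_index
      rw [U₁.card_eq_multiplicity, hUm, card_map_of_injective (Subgroup.subtype_injective _),
        U.card_eq_multiplicity]
      refine Nat.pow_dvd_pow p (le_of_eq ?_)
      rw [← card_mul_index (normalizer (V : Set (G ⧸ Q))), Nat.factorization_mul Nat.card_pos.ne'
        index_ne_zero_of_finite, Finsupp.add_apply, Nat.factorization_eq_zero_of_not_dvd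
          (fun hd => hKp (hd.trans hdvd)), add_zero]
    obtain ⟨g, hg⟩ := MulAction.exists_smul_eq (G ⧸ Q) U₁ Pb
    -- move `V` to one normalised by `Pb`
    set V' := V.map (MulAut.conj g).toMonoidHom with hV'
    have hPV : (Pb : Subgroup (G ⧸ Q)) ≤ normalizer (V' : Set (G ⧸ Q)) := by
      rw [← hg, Sylow.coe_subgroup_smul]
      show (U₁ : Subgroup (G ⧸ Q)).map (MulAut.conj g).toMonoidHom ≤ _
      rw [← hUeq]
      refine le_trans (map_mono (map_subtype_le _)) ?_
      exact le_normalizer_map _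
    have hV'2 : IsPGroup 2 V' := hV2.map _
    suffices IsMulCommutative V' from isMulCommutative_of_map (MulAut.conj g).injective this
    haveI : Group.IsNilpotent V' := hV'2.isNilpotent
    set Z := (Subgroup.center V').map V'.subtype with hZ
    have hZn : normalizer (V' : Set (G ⧸ Q)) ≤ normalizer (Z : Set (G ⧸ Q)) := by
      intro u hu
      rw [mem_normalizer_iff_map_conj_eq]
      let e : ↥V' ≃* ↥V' := V'.normalizerMonoidHom ⟨u, hu⟩
      have : (Subgroup.center V').map e.toMonoidHom = Subgroup.center V' :=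
        Subgroup.characteristic_iff_map_eq.1 inferInstance e
      conv_rhs => rw [hZ, ← this, Subgroup.map_map]
      rw [hZ, Subgroup.map_map]
      rfl
    have hZne : Z ≠ ⊥ := by
      intro e
      have hV'1 : V' ≠ ⊥ := fun e' => hV1 ((map_eq_bot_iff_of_injective _ (MulAut.conj g).injective).1 e')
      haveI : Nontrivial V' := (Subgroup.nontrivial_iff_ne_bot _).2 hV'1
      exact (Subgroup.nontrivial_iff_ne_bot _).1 hV'2.center_nontrivial
        ((map_eq_bot_iff_of_injective _ V'.subtype_injective).1 e)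
    have hZ2 : IsPGroup 2 Z := hV'2.to_le (map_subtype_le _)
    have htop : Z ⊔ (Pb : Subgroup (G ⧸ Q)) = ⊤ := by
      by_contra ht
      have hZP : Z ≤ (Pb : Subgroup (G ⧸ Q)) := (hover _ le_sup_right ht) ▸ le_sup_left
      exact hZne (disjoint_self.1 ((IsPGroup.disjoint_of_ne p 2 hp _ _
        (Pb.isPGroup'.to_le hZP) hZ2)))
    have hVZ : V' ≤ Z := by
      intro v hv
      have : v ∈ ((Z ⊔ (Pb : Subgroup (G ⧸ Q)) : Subgroup (G ⧸ Q)) : Set (G ⧸ Q)) := htop ▸ mem_top v
      rw [coe_mul_of_right_le_normalizer_left Z _ (hPV.trans hZn)] at this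
      obtain ⟨z, hz, t, ht, rfl⟩ := Set.mem_mul.1 this
      have htV : t ∈ V' := by
        have := mul_mem (inv_mem (map_subtype_le _ hz : z ∈ V')) hv
        rwa [inv_mul_cancel_left] at this
      have ht1 : t = 1 := Subgroup.mem_bot.1
        ((IsPGroup.disjoint_of_ne p 2 hp _ _ Pb.isPGroup' hV'2).le_bot ⟨ht, htV⟩)
      rw [ht1, mul_one]
      exact hz
    refine isMulCommutative_of_le (isMulCommutative_map ?_ V'.subtype) hVZ
    infer_instance
  have hns : ¬ HasSL2Section p (⊤ : Subgroup G) := by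
    refine not_hasSL2Section_of_abelian_sylow_two hp (isMulCommutative_sylow_top fun S => ?_)
    have hinj : Function.Injective (π.comp (S : Subgroup G).subtype) := by
      rw [injective_iff_map_eq_one]
      intro x hx
      have hxQ : (x : G) ∈ Q := (QuotientGroup.eq_one_iff _).1 hx
      exact Subtype.ext (Subgroup.mem_bot.1 ((IsPGroup.disjoint_of_ne p 2 hp _ _
        (isPGroup_pCore p G) S.isPGroup').le_bot ⟨hxQ, x.2⟩))
    haveI := hab2 ((S : Subgroup G).map π) (S.isPGroup'.map π)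
    refine ⟨⟨fun a b => hinj ?_⟩⟩
    rw [map_mul, map_mul]
    exact congrArg Subtype.val (mul_comm' (⟨π a.1, a, a.2, rfl⟩ : (S : Subgroup G).map π)
      ⟨π b.1, b, b.2, rfl⟩)
  haveI hIn := h.iSub_normal hc fun V _ hV => isPStableOn_of_no_section hp hns V hV
  rw [normalizer_eq_top] at hN
  exact hne (top_le_iff.1 hN)

end CfsgLib.FusionAxThompson
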