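import Cfsg.Agent.WeakClosed.FusionSparse
import Cfsg.Agent.FusionAxThompson.Group

/-!
# The axiomatic Glauberman–Thompson criterion for fusion systems
-/

set_option autoImplicit false

universe u

namespace CfsgLib.FusionAxThompson

open Cfsg Cfsg.FusionSystem CfsgLib.Fusion CfsgLib.FusionThompson CfsgLib.WeakClosed

variable {Ω : Type u} [Group Ω] {p : ℕ}

/-- The hypotheses on the family in a fusion system. -/
structure IsSystemFamily {M : Subgroup Ω} (G : FusionSystem M) (𝒜 : Set (Subgroup Ω)) : Prop where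
  le : ∀ A ∈ 𝒜, A ≤ M
  comm : ∀ A ∈ 𝒜, IsMulCommutative A
  nonempty : 𝒜.Nonempty
  inv : ∀ Q ≤ M, (∃ A ∈ 𝒜, A ≤ Q) → ∀ α ∈ G.autGroup Q, ∀ x : Q, (x : Ω) ∈ iSub 𝒜 Q →
    ((α x : Q) : Ω) ∈ iSub 𝒜 Q
  repl : ∀ B ≤ M, M ≤ Subgroup.normalizer (B : Set Ω) → ⁅⁅B, B⁆, B⁆ = ⊥ →
    (∃ A ∈ 𝒜, ⁅B, B⁆ ≤ A ∧ ¬ B ≤ A) →
      ∃ A ∈ 𝒜, ⁅B, B⁆ ≤ A ∧ ¬ B ≤ A ∧ B ≤ Subgroup.normalizer (A : Set Ω)

variable {M : Subgroup Ω} {G : FusionSystem M} {𝒜 : Set (Subgroup Ω)}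

theorem IsSystemFamily.iSub_le (h : IsSystemFamily G 𝒜) : iSub 𝒜 M ≤ M := by
  obtain ⟨A, hA⟩ := h.nonempty
  exact (sInf_le ⟨hA, h.le A hA⟩ : iSub 𝒜 M ≤ A).trans (h.le A hA)

theorem IsSystemFamily.normalizes (h : IsSystemFamily G 𝒜) :
    M ≤ Subgroup.normalizer (iSub 𝒜 M : Set Ω) := by
  obtain ⟨A, hA⟩ := h.nonempty
  have key : ∀ m ∈ M, ∀ x ∈ iSub 𝒜 M, m * x * m⁻¹ ∈ iSub 𝒜 M := fun m hm x hx =>
    h.inv M le_rfl ⟨A, hA, h.le A hA⟩ (M.normalizerMonoidHom ⟨m, Subgroup.le_normalizer hm⟩)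
      (autInducedBy_le_autGroup le_rfl
        (mem_autInducedBy_iff.2 ⟨m, hm, Subgroup.le_normalizer hm, fun _ => rfl⟩))
      ⟨x, h.iSub_le hx⟩ hx
  intro m hm
  refine Subgroup.mem_normalizer_iff.2 fun x => ⟨key m hm x, fun hx => ?_⟩
  simpa [mul_assoc] using key m⁻¹ (inv_mem hm) _ hx

theorem IsSystemFamily.mono (h : IsSystemFamily G 𝒜) {E : FusionSystem M}
    (hE : ∀ P, E.Hom P ⊆ G.Hom P) : IsSystemFamily E 𝒜 :=
  ⟨h.le, h.comm, h.nonempty, fun Q hQ hA α hα => h.inv Q hQ hA α (autGroup_mono hE Q hα), h.repl⟩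

/-- The family in a model. -/
theorem IsSystemFamily.inModel [Finite M] (h : IsSystemFamily G 𝒜) {L : Type u}
    [Group L] {ι : ↥M →* L} (hr : G.IsRealizedBy ι) :
    IsThompsonFamily (im ι '' 𝒜) ι.range ∧
      iSub (im ι '' 𝒜) ι.range = im ι (iSub 𝒜 M) := by
  have hle : ∀ {A R : Subgroup Ω}, A ≤ M → (im ι A ≤ im ι R ↔ A ≤ R) := by
    intro A R hA
    exact ⟨fun h' x hx => (apply_mem_im_iff hr.1 (x := ⟨x, hA hx⟩)).1
      (h' ((apply_mem_im_iff hr.1).2 hx)), fun h' => im_mono ι h'⟩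
  have hiSub : ∀ R ≤ M, (∃ A ∈ 𝒜, A ≤ R) →
      iSub (im ι '' 𝒜) (im ι R) = im ι (iSub 𝒜 R) := by
    rintro R hR ⟨A₀, hA₀, hA₀R⟩
    ext y
    simp only [iSub, Subgroup.mem_sInf, Set.mem_setOf_eq, Set.mem_image]
    constructor
    · intro hy
      obtain ⟨x, -, rfl⟩ := hy (im ι A₀) ⟨⟨A₀, hA₀, rfl⟩, im_mono ι hA₀R⟩
      refine (apply_mem_im_iff hr.1).2 (Subgroup.mem_sInf.2 fun A hA => ?_)
      exact (apply_mem_im_iff hr.1).1 (hy (im ι A) ⟨⟨A, hA.1, rfl⟩, im_mono ι hA.2⟩)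
    · rintro ⟨x, hx, rfl⟩ _ ⟨⟨A, hA, rfl⟩, hAR⟩
      exact (apply_mem_im_iff hr.1).2
        (Subgroup.mem_sInf.1 hx A ⟨hA, (hle (h.le A hA)).1 hAR⟩)
  obtain ⟨A₀, hA₀⟩ := h.nonempty
  refine ⟨⟨?_, ?_, ⟨_, A₀, hA₀, rfl⟩, ?_, ?_⟩, ?_⟩
  · rintro _ ⟨A, -, rfl⟩
    exact im_le_range ι A
  · rintro _ ⟨A, hA, rfl⟩
    exact PLocal.isMulCommutative_map ⟨⟨fun a b => Subtype.ext (Subtype.ext
      (PLocal.comm_of_isMulCommutative (h.comm A hA) (Subgroup.mem_subgroupOf.1 a.2)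
        (Subgroup.mem_subgroupOf.1 b.2)))⟩⟩ ι
  · intro R hR ⟨_, ⟨A, hA, rfl⟩, hAR⟩ g hg x hx
    obtain ⟨R₀, hR₀, rfl⟩ := exists_im_eq hR
    have hAR₀ := (hle (h.le A hA)).1 hAR
    rw [hiSub R₀ hR₀ ⟨A, hA, hAR₀⟩] at hx ⊢
    obtain ⟨e, he, hev⟩ := exists_iso_of_conj hr hR₀ hR₀
      (Subgroup.mem_normalizer_iff_map_conj_eq.1 hg)
    obtain ⟨z, hz, rfl⟩ := hx
    have hzR : (z : Ω) ∈ R₀ := (sInf_le ⟨hA, hAR₀⟩ : iSub 𝒜 R₀ ≤ A).trans hAR₀ hz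
    rw [show g * ι z * g⁻¹ = ι ⟨_, hR₀ (e ⟨z, hzR⟩).2⟩ from (hev ⟨z, hzR⟩).symm]
    exact (apply_mem_im_iff hr.1).2
      (h.inv R₀ hR₀ ⟨A, hA, hAR₀⟩ e he.mem_autGroup ⟨z, hzR⟩ hz)
  · intro B hB hTB hcl ⟨_, ⟨A, hA, rfl⟩, hBA, hnle⟩
    obtain ⟨B₀, hB₀, rfl⟩ := exists_im_eq hB
    have hder : im ι ⁅B₀, B₀⁆ = ⁅im ι B₀, im ι B₀⁆ := by
      have hc : (⁅B₀, B₀⁆).subgroupOf M = ⁅B₀.subgroupOf M, B₀.subgroupOf M⁆ := by
        refine Subgroup.map_injective M.subtype_injective ?_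
        rw [Subgroup.map_commutator, Subgroup.map_subgroupOf_eq_of_le hB₀,
          Subgroup.map_subgroupOf_eq_of_le (B₀.commutator_le_self.trans hB₀)]
      rw [im, im, hc, Subgroup.map_commutator]
    have hd2 : ⁅⁅B₀, B₀⁆, B₀⁆ = ⊥ := by
      rw [Subgroup.commutator_eq_bot_iff_le_centralizer]
      intro x hx
      rw [Subgroup.mem_centralizer_iff]
      intro y hy
      have hc := Subgroup.commutator_eq_bot_iff_le_centralizer.1 hcl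
        (hder ▸ (apply_mem_im_iff hr.1 (x := ⟨x, hB₀ (B₀.commutator_le_self hx)⟩)).2 hx)
      have h1 := Subgroup.mem_centralizer_iff.1 hc (ι ⟨y, hB₀ hy⟩) ((apply_mem_im_iff hr.1).2 hy)
      rw [← map_mul, ← map_mul] at h1
      exact congrArg Subtype.val (hr.1 h1)
    obtain ⟨A', hA', h1, h2, h3⟩ := h.repl B₀ hB₀ (fun m hm => by
      refine Subgroup.mem_normalizer_iff.2 fun x => ?_
      have hN := Subgroup.mem_normalizer_iff.1 (hTB (⟨⟨m, hm⟩, rfl⟩ : ι ⟨m, hm⟩ ∈ ι.range))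
      constructor
      · intro hx
        have := (hN (ι ⟨x, hB₀ hx⟩)).1 ((apply_mem_im_iff hr.1).2 hx)
        rw [← map_inv, ← map_mul, ← map_mul] at this
        exact (apply_mem_im_iff hr.1).1 this
      · intro hx
        have hxM : x ∈ M := by
          simpa [mul_assoc] using M.mul_mem (M.mul_mem (M.inv_mem hm) (hB₀ hx)) hm
        refine (apply_mem_im_iff hr.1 (x := ⟨x, hxM⟩)).1 ((hN _).2 ?_)
        rw [← map_inv, ← map_mul, ← map_mul]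
        exact (apply_mem_im_iff hr.1).2 hx) hd2
      ⟨A, hA, (hle (B₀.commutator_le_self.trans hB₀)).1 (hder.le.trans hBA),
        fun hh => hnle (im_mono ι hh)⟩
    refine ⟨_, ⟨A', hA', rfl⟩, hder.ge.trans (im_mono ι h1), fun hh => h2 ((hle hB₀).1 hh), ?_⟩
    have h4 : B₀ ≤ normalizerIn M A' := le_inf hB₀ h3
    exact ((im_mono ι h4).trans (im_normalizerIn hr.1 (h.le A' hA')).le).trans inf_le_right
  · rw [← im_self ι, hiSub M le_rfl ⟨A₀, hA₀, h.le A₀ hA₀⟩]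

/-- If the normalizer of the intersection is inner, so is the system. -/
theorem IsSystemFamily.allInner [Finite M] [Fact p.Prime] (hM : IsPGroup p M) (hG : G.IsSaturated p)
    (hp : p ≠ 2) (h : IsSystemFamily G 𝒜)
    (hN : ∀ (P : Subgroup Ω) (φ : P →* Ω), φ ∈ G.normalizerHom (iSub 𝒜 M) P →
      φ ∈ (innerFusionSystem M).Hom P) : AllInner G := by
  obtain ⟨k, hk⟩ : ∃ k, (mapSet G).ncard = k := ⟨_, rfl⟩
  induction k using Nat.strong_induction_on generalizing G with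
  | _ k ih =>
  by_contra hne
  have hsp : ∀ E : FusionSystem M, E.IsSaturated p → (∀ P, E.Hom P ⊆ G.Hom P) →
      (∀ P, E.Hom P = G.Hom P) ∨ AllInner E := by
    intro E hEs hsub
    by_cases heq : mapSet E = mapSet G
    · left
      intro P
      ext φ
      exact Set.ext_iff.1 heq ⟨P, φ⟩
    · right
      have hss : mapSet E ⊆ mapSet G := fun x hx => hsub x.1 hx
      refine ih _ (hk ▸ Set.ncard_lt_ncard (hss.ssubset_of_ne heq) (mapSet_finite G)) hEs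
        (h.mono hsub) (fun R ψ hψ => hN R ψ ?_) rfl
      obtain ⟨h1, h2, h3, ω, hω, hω1, hω2⟩ := hψ
      exact ⟨hsub R h1, h2, h3, ω, hsub _ hω, hω1, hω2⟩
  obtain ⟨-, Q, hQn, hQc⟩ := isConstrained_of_sparse hM hG (Or.inl hp) hne hsp
  obtain ⟨L, _, ι, hL⟩ := exists_model hM hG hQn hQc
  obtain ⟨hfin, hr, ⟨T, hT⟩, hc⟩ := id hL
  haveI := hfin
  obtain ⟨hfam, hZ⟩ := h.inModel hr
  rw [← hT] at hfam hZ
  obtain ⟨Q₀, hQ₀, himQ⟩ := exists_im_eq ((PLocal.pCore_le_sylow T).trans hT.le)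
  set Z := iSub 𝒜 M with hZdef
  have hZM : Z ≤ M := h.iSub_le
  have hMZ := h.normalizes
  have hNT : Subgroup.normalizer (im ι Z : Set L) ≤ (T : Subgroup L) := by
    intro g hg
    set D := Q₀ ⊔ Z with hD
    have hDM : D ≤ M := sup_le hQ₀ hZM
    have hZD : Z ≤ D := le_sup_right
    have hmap : (im ι D).map (MulAut.conj g).toMonoidHom = im ι D := by
      rw [im, Subgroup.subgroupOf_sup hQ₀ hZM, Subgroup.map_sup, Subgroup.map_sup]
      show (im ι Q₀).map _ ⊔ (im ι Z).map _ = im ι Q₀ ⊔ im ι Z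
      rw [himQ]
      exact congrArg₂ (· ⊔ ·) (Subgroup.mem_normalizer_iff_map_conj_eq.1 (by
          rw [Subgroup.normalizer_eq_top]; exact Subgroup.mem_top g))
        (Subgroup.mem_normalizer_iff_map_conj_eq.1 hg)
    obtain ⟨e, he, hev⟩ := exists_iso_of_conj hr hDM hDM hmap
    have hle : D ⊔ Z ≤ D := sup_le le_rfl hZD
    obtain ⟨-, t, ht, hv⟩ := hN D (D.subtype.comp e.toMonoidHom)
      ⟨he, fun y hy => ⟨hDM hy, hMZ (hDM hy)⟩, fun y => ⟨hDM (e y).2, hMZ (hDM (e y).2)⟩,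
        restrictHom _ hle, restrict_mem he hle, fun y => rfl, by
          haveI := finite_of_le hZM
          refine Subgroup.eq_of_le_of_card_ge ?_
            (card_imgHom (G.injective_of_mem (restrict_mem he hle)) le_sup_right).ge
          rintro _ ⟨y, hy, rfl⟩
          refine (apply_mem_im_iff hr.1 (x := ⟨_, hDM (e ⟨(y : Ω), hle y.2⟩).2⟩)).1 ?_
          rw [hev]
          exact (Subgroup.mem_normalizer_iff.1 hg _).1 ((apply_mem_im_iff hr.1).2 hy)⟩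
    have hgt : (ι ⟨t, ht⟩)⁻¹ * g ∈ Subgroup.centralizer (pCore p L : Set L) := by
      refine Subgroup.mem_centralizer_iff.2 fun q hq => ?_
      rw [SetLike.mem_coe, ← himQ] at hq
      obtain ⟨m, hm, rfl⟩ := hq
      have h1 := hev ⟨m, Subgroup.mem_sup_left hm⟩
      have h2 : ((e ⟨m, Subgroup.mem_sup_left hm⟩ : ↥D) : Ω) = t * m * t⁻¹ :=
        hv ⟨m, Subgroup.mem_sup_left hm⟩
      rw [show (⟨_, hDM (e ⟨(m : Ω), Subgroup.mem_sup_left hm⟩).2⟩ : M) =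
          ⟨t, ht⟩ * m * (⟨t, ht⟩ : M)⁻¹ from Subtype.ext h2, map_mul, map_mul, map_inv] at h1
      calc ι m * ((ι ⟨t, ht⟩)⁻¹ * g)
          = (ι ⟨t, ht⟩)⁻¹ * (ι ⟨t, ht⟩ * ι m * (ι ⟨t, ht⟩)⁻¹) * g := by group
        _ = (ι ⟨t, ht⟩)⁻¹ * (g * ι m * g⁻¹) * g := by rw [h1]
        _ = (ι ⟨t, ht⟩)⁻¹ * g * ι m := by group
    have h3 := Subgroup.mul_mem _ (show ι ⟨t, ht⟩ ∈ (T : Subgroup L) from hT ▸ ⟨_, rfl⟩)
      (PLocal.pCore_le_sylow T (hc hgt))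
    rwa [mul_inv_cancel_left] at h3
  have htop := sylow_eq_top hp _ rfl T _ hfam hc (hZ.symm ▸ hNT)
  refine hne fun P φ hφ => ?_
  obtain ⟨g, hg⟩ := (hr.2 P (le_left hφ) φ fun z => apply_mem hφ z).1 hφ
  obtain ⟨m, rfl⟩ : g ∈ ι.range := by rw [← hT, htop]; exact Subgroup.mem_top g
  refine ⟨le_left hφ, m, m.2, fun y => ?_⟩
  have h1 := hg y
  rw [← map_inv, ← map_mul, ← map_mul] at h1
  exact congrArg Subtype.val (hr.1 h1)

/-- The criterion as an equivalence. -/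
theorem IsSystemFamily.inner_iff [Finite M] [Fact p.Prime] (hM : IsPGroup p M) (hG : G.IsSaturated p)
    (hp : p ≠ 2) (h : IsSystemFamily G 𝒜) :
    (∀ P : Subgroup Ω, G.Hom P = (innerFusionSystem M).Hom P) ↔
      ∀ N : FusionSystem (normalizerIn M (iSub 𝒜 M)), G.IsNormalizerSystem (iSub 𝒜 M) N →
        ∀ P : Subgroup Ω, N.Hom P = (innerFusionSystem (normalizerIn M (iSub 𝒜 M))).Hom P := by
  have hn := h.normalizes
  refine ⟨fun h' N hN P => ?_, fun h' => ?_⟩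
  · refine Set.Subset.antisymm (fun φ hφ => ?_) fun φ ⟨hP, g, hg, hv⟩ =>
      conj_mem' hP hg hv
    have hF' : φ ∈ G.Hom P := ((hN P) ▸ hφ : φ ∈ G.normalizerHom (iSub 𝒜 M) P).1
    rw [h' P] at hF'
    obtain ⟨-, g, hg, hv⟩ := hF'
    exact ⟨(N.le_of_mem hφ).1, g, ⟨hg, hn hg⟩, hv⟩
  · obtain ⟨N, hN⟩ := exists_isNormalizerSystem G h.iSub_le
    exact (h.allInner hM hG hp fun P φ hφ =>
      inner_mono (normalizerIn_le M _) P (h' N hN P ▸ (hN P).symm ▸ hφ)).hom_eq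

end CfsgLib.FusionAxThompson
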